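import Cfsg.Agent.Lib.MonsterType.HeldNorm.Data
import Cfsg.Agent.Lib.MonsterType.Held.Tables

/-! Kernel checks on the frame of eigenvectors. -/

set_option autoImplicit false
set_option maxRecDepth 20000

namespace CfsgLib.MonsterType.HeldNorm

open Cfsg CfsgLib.Golay CfsgLib.MonsterType.Held

/-- The sign of a row. -/
def etaSign (p : GolayPt) : ℤ := if (codeWord dodIdx).testBit (idx p).val then -1 else 1

theorem eta_eigen : ∀ p q : GolayPt,
    rowsAct baseW2 (rowsFrame rowsEtaL p) q = etaSign p * rowsFrame rowsEtaL p q := by decide +kernel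

theorem baseW2_comm : ∀ p k : GolayPt,
    rowsFrame baseW2 p (sevP.symm k) = rowsFrame baseW2 (sevP.symm p) k := by decide +kernel

theorem dod_nontrivial : (∃ p : GolayPt, (codeWord dodIdx).testBit (idx p).val = true) ∧
    ∃ p : GolayPt, (codeWord dodIdx).testBit (idx p).val = false := by decide +kernel

theorem inW_wc : ∀ i : Fin 7, InW (wc i) := by decide +kernel

theorem found2_ne : Seven.found2 ≠ [] := by decide +kernel

end CfsgLib.MonsterType.HeldNorm
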