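import Cfsg.Agent.Lib.MonsterType.HeldNorm.FrameCert
import Cfsg.Agent.Lib.MonsterType.HeldNorm.Cert
import Cfsg.Agent.Lib.MonsterType.Held.Group

/-! Elements of the automorphism group of the lattice normalizing the cyclic group of order 7: an involution
conjugate to a sign change which inverts it, and a permutation squaring it. -/

set_option autoImplicit false

noncomputable section

namespace CfsgLib.MonsterType.HeldNorm

open Cfsg CfsgLib.Golay CfsgLib.MonsterType CfsgLib.MonsterType.Held

/-- The sign change. -/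
def dodW : golayCode := ⟨dec (codeWord dodIdx), dec_codeWord_mem dodIdx⟩

/-- The change to the frame of eigenvectors. -/
def eta : Co0 := rowsAut testEta

theorem sgn_mul_self (c : golayCode) : sgnW c * sgnW c = 1 := by
  refine co0_ext fun v => Subtype.ext (funext fun p => ?_)
  rw [mul_smul, sgnW_apply, sgnW_apply, one_smul]
  split_ifs <;> simp

/-- The involution inverting the permutation. -/
def inv7 : Co0 := rowsAut test_baseW2

theorem inv7_comm : inv7 * sevW⁻¹ = sevW * inv7 := by
  refine co0_ext fun v => Subtype.ext (funext fun p => ?_)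
  rw [mul_smul, mul_smul, sevW_apply, inv7, coe_rowsAut, coe_rowsAut]
  congr 1
  simp only [dotInt, sevW_inv_apply]
  rw [← Equiv.sum_comp sevP.symm]
  simp only [Equiv.apply_symm_apply, baseW2_comm]

theorem eta_mul_inv7 : eta * inv7 = sgnW dodW * eta := by
  refine co0_ext fun v => Subtype.ext (funext fun p => ?_)
  rw [mul_smul, mul_smul, sgnW_apply, eta, coe_rowsAut, coe_rowsAut]
  have hmem : rowsFrame rowsEtaL p ∈ leechLattice := (isFrame_of_test testEta).1 p
  have h : dotInt ((inv7 • v : leechLattice) : GolayPt → ℤ) (rowsFrame rowsEtaL p) =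
      etaSign p * dotInt (v : GolayPt → ℤ) (rowsFrame rowsEtaL p) := by
    have hw : ((inv7 • (⟨_, hmem⟩ : leechLattice) : leechLattice) : GolayPt → ℤ) =
        etaSign p • rowsFrame rowsEtaL p := by
      rw [inv7, coe_rowsAut]
      funext q
      exact eta_eigen p q
    have hd := dot_smul_lat (inv7) v ⟨_, hmem⟩
    rw [hw, dot_smul_right] at hd
    have hs : etaSign p * etaSign p = 1 := by unfold etaSign; split_ifs <;> norm_num
    rw [← hd, ← mul_assoc, hs, one_mul]
  simp only [h]
  show _ = if dec (codeWord dodIdx) p = 0 then _ else -_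
  unfold etaSign dec
  by_cases hb : (codeWord dodIdx).testBit (idx p).val
  · have h8 : (8 : ℤ) ∣ dotInt (v : GolayPt → ℤ) (rowsFrame rowsEtaL p) := eight_dvd_dot v.2 hmem
    simp [hb, Int.neg_ediv_of_dvd h8]
  · simp [hb]

theorem inv7_eq : inv7 = eta⁻¹ * sgnW dodW * eta := by
  rw [mul_assoc, ← eta_mul_inv7, inv_mul_cancel_left]

theorem inv7_sq : inv7 * inv7 = 1 := by
  rw [inv7_eq]
  calc eta⁻¹ * sgnW dodW * eta * (eta⁻¹ * sgnW dodW * eta) = eta⁻¹ * (sgnW dodW * sgnW dodW) * eta := by group
    _ = 1 := by rw [sgn_mul_self, mul_one, inv_mul_cancel]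

theorem inv7_conj : inv7 * sevW * inv7 = sevW⁻¹ := by
  have h1 : inv7⁻¹ = inv7 := inv_eq_of_mul_eq_one_right inv7_sq
  have h := inv7_comm
  calc inv7 * sevW * inv7 = inv7 * (sevW * inv7) := mul_assoc _ _ _
    _ = inv7 * inv7 * sevW⁻¹ := by rw [← h, mul_assoc]
    _ = sevW⁻¹ := by rw [inv7_sq, one_mul]

theorem dod_nontrivial' : sgnW dodW ∉ Subgroup.center Co0 := by
  intro h
  obtain ⟨⟨p, hp⟩, ⟨q, hq⟩⟩ := dod_nontrivial
  rcases center_cases h with e | e
  · have e' : sgnW dodW = sgnW 0 := e.trans (map_one sgnHom).symm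
    have := congrFun (congrArg Subtype.val (sgnW_injective e')) p
    simp [dodW, dec, hp] at this
  · have := congrFun (congrArg Subtype.val (sgnW_injective e)) q
    simp [dodW, dec, hq] at this

theorem exists_square : ∃ π : M24, permW π * sevW * (permW π)⁻¹ = sevW ^ 2 := by
  obtain ⟨l, hl⟩ := List.exists_mem_of_ne_nil _ found2_ne
  have hl' : l ∈ Seven.searchK 2 := by rw [Seven.searchK_found (by norm_num) (by norm_num)]; exact hl
  have hg : genOK l = true := by
    have := List.all_eq_true.mp Seven.norm_valid 2 (List.mem_range.mpr (by norm_num))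
    simp only [Bool.or_eq_true, beq_iff_eq, OfNat.ofNat_ne_zero, false_or, List.all_eq_true, Bool.and_eq_true] at this
    exact (this l hl).1
  obtain ⟨σ, hσ, hσl⟩ := exists_perm hg
  obtain ⟨-, hc⟩ := (Cfsg.Agent.S5604.mem_searchK toList_sevP (by norm_num) (by norm_num)).mpr (hσl ▸ hl')
  refine ⟨⟨σ, hσ⟩, ?_⟩
  show permHom ⟨σ, hσ⟩ * permHom sev * (permHom ⟨σ, hσ⟩)⁻¹ = permHom sev ^ 2
  rw [← map_inv, ← map_mul, ← map_mul, ← map_pow]
  exact congrArg _ (Subtype.ext hc)

end CfsgLib.MonsterType.HeldNorm
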