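import Cfsg.Agent.Lib.MonsterType.Held.Main
import Cfsg.Agent.Lib.Solvable.Fitting

/-! The Fitting subgroup of the centralizer of an element of order 7 in normal position. -/

set_option autoImplicit false

namespace CfsgLib.MonsterType.HeldNorm

open Cfsg CfsgLib.Golay CfsgLib.LargeExtra CfsgLib.MonsterType CfsgLib.MonsterType.Local CfsgLib.MonsterType.Held
open Matrix in
/-- `SL(3,2)` has no nontrivial normal subgroup of prime power order. -/
theorem sl3_pgroup_bot {p : ℕ} [hp : Fact p.Prime] {N : Subgroup (SpecialLinearGroup (Fin 3) (ZMod 2))}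
    (hn : N.Normal) (hP : IsPGroup p N) : N = ⊥ := by
  have hsim := Cfsg.Agent.Classical.psl_isSimpleGroup (F := ZMod 2) (ι := Fin 3) (by norm_num)
  have hc : Subgroup.center (SpecialLinearGroup (Fin 3) (ZMod 2)) = ⊥ := by
    apply Subgroup.eq_bot_of_card_eq
    rw [Cfsg.Agent.Classical.card_center_sl 3 (by norm_num), ZMod.card]
    rfl
  let e : SpecialLinearGroup (Fin 3) (ZMod 2) ≃* ProjectiveSpecialLinearGroup (Fin 3) (ZMod 2) :=
    ((QuotientGroup.quotientBot).symm).trans (QuotientGroup.quotientMulEquivOfEq hc.symm)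
  have hsim' : IsSimpleGroup (SpecialLinearGroup (Fin 3) (ZMod 2)) := e.isSimpleGroup
  rcases hn.eq_bot_or_eq_top with h | h
  · exact h
  · obtain ⟨n, hn'⟩ := IsPGroup.iff_card.mp hP
    rw [h, Subgroup.card_top, Transvection.natCard_SL3] at hn'
    have h7 : 7 ∣ p ^ n := ⟨24, by omega⟩
    have h2 : 2 ∣ p ^ n := ⟨84, by omega⟩
    have := (Nat.prime_dvd_prime_iff_eq (by norm_num) hp.out).mp ((by norm_num : Nat.Prime 7).dvd_of_dvd_pow h7)
    have := (Nat.prime_dvd_prime_iff_eq Nat.prime_two hp.out).mp (Nat.prime_two.dvd_of_dvd_pow h2)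
    omega

variable {G : Type*} [Group G] [Finite G] {z : G} {Q : Subgroup (cz z)} [Q.Normal]
  {e : cz z ⧸ Q ≃* Spor.Co1} {ψ : leechLattice → Q ⧸ Subgroup.center Q}
  {b : G} (hS : IsExtraspecialCentralizerSetting z Q 12) (hψ : IsLeechModTwoIso Q e ψ)
  (hb : orderOf b = 7) (hbz : b ∈ cz z) (he : e (QuotientGroup.mk ⟨b, hbz⟩) = QuotientGroup.mk sevW)

include hS hb he in
theorem actHom_surjective [Fact (Nat.Prime 7)] : Function.Surjective (actHom hbz he) := fun M => by
  obtain ⟨γ, rfl⟩ := rhoHom_surjective M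
  obtain ⟨c, hcb, hce⟩ := exists_lift_cent hS hb hbz he γ.2
  exact ⟨⟨c, mem_czb.mpr ⟨Subgroup.mem_centralizer_singleton_iff.mp c.2, hcb⟩⟩, actHom_eq hbz he _ hce.symm⟩

theorem actHom_ker {c : czb z b} (hc : actHom hbz he c = 1) :
    ∃ q ∈ fixQ Q b, q⁻¹ * (c : G) ∈ Subgroup.zpowers b := by
  obtain ⟨γ, hγ⟩ := exists_rep_cent hbz he ⟨c, c.2.1⟩ (mem_czb.mp c.2).2
  rw [actHom_eq hbz he c hγ] at hc
  obtain ⟨t, ht⟩ := rho_eq_one γ.2 (congrArg Subtype.val hc)
  have hmk : e (QuotientGroup.mk (⟨c, c.2.1⟩ : cz z)) = e (QuotientGroup.mk (⟨b, hbz⟩ : cz z)) ^ t := by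
    rw [← hγ, he]
    rcases ht with e1 | e1 <;> rw [e1]
    · rfl
    · rw [QuotientGroup.mk_mul, (QuotientGroup.eq_one_iff _).mpr neg_mem_center, one_mul]
      rfl
  rw [← map_pow, ← QuotientGroup.mk_pow, e.injective.eq_iff, eq_comm, QuotientGroup.eq] at hmk
  refine ⟨(c : G) * (b ^ t)⁻¹, mem_fixQ.mpr ⟨?_, ?_⟩, ?_⟩
  · have h2 := coe_mem_qm.mpr ((inferInstance : Q.Normal).conj_mem _ hmk (⟨b, hbz⟩ ^ t))
    simpa [mul_assoc] using h2
  · exact ((show Commute (c : G) b from (mem_czb.mp c.2).2).mul_left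
      ((Commute.refl b).pow_left t).inv_left).eq
  · have : ((c : G) * (b ^ t)⁻¹)⁻¹ * (c : G) = b ^ t := by group
    rw [this]
    exact pow_mem (Subgroup.mem_zpowers b) t

include hS hb he in
/-- A normal `p`-subgroup of the common centralizer lies in `C_Q(b)⟨b⟩`. -/
theorem pgroup_le_kernel {p : ℕ} [Fact p.Prime] {M : Subgroup (czb z b)} (hn : M.Normal) (hp : IsPGroup p M) :
    ∀ c ∈ M, ∃ q ∈ fixQ Q b, q⁻¹ * (c : G) ∈ Subgroup.zpowers b := by
  have : Fact (Nat.Prime 7) := ⟨by norm_num⟩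
  have h := sl3_pgroup_bot (hn.map _ (actHom_surjective hS hb hbz he)) (hp.map (actHom hbz he))
  intro c hc
  exact actHom_ker hbz he (by rw [← Subgroup.mem_bot, ← h]; exact ⟨c, hc, rfl⟩)

include hS hψ hb he in
/-- Every conjugate of `z` generates `C_Q(b)`. -/
theorem fixQ_le_of_conj {N : Subgroup G} (hz : z ∈ N)
    (hN : ∀ r ∈ fixQ Q b, IsConj z r → r ∈ N) : fixQ Q b ≤ N := by
  classical
  obtain ⟨hA, -, -⟩ := setting_extraAt hS
  let ok : (Fin 6 → ZMod 2) → Prop := fun c => ∀ q : Q, ψ (ofKap c) = QuotientGroup.mk q → gval q ∈ N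
  have one : ∀ {c : Fin 6 → ZMod 2} {q : Q}, ψ (ofKap c) = QuotientGroup.mk q → gval q ∈ N → ok c := by
    intro c q hq hqN q' hq'
    rcases (mk_center_iff hS q' q).mp (hq'.symm.trans hq) with e1 | e1 <;> rw [e1]
    exacts [hqN, mul_mem hz hqN]
  have hadd : ∀ {c d : Fin 6 → ZMod 2}, ok c → ok d → ok (c + d) := by
    intro c d hc hd
    obtain ⟨q, hq⟩ := QuotientGroup.mk_surjective (ψ (ofKap c))
    obtain ⟨q', hq'⟩ := QuotientGroup.mk_surjective (ψ (ofKap d))
    refine one (q := q * q') ?_ (mul_mem (hc q hq.symm) (hd q' hq'.symm))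
    have hf : Fixed (ofKap c + ofKap d) := fixed_of_smul (by
      rw [smul_add']; exact congrArg₂ (· + ·) (sev_comb _) (sev_comb _))
    rw [(psi_cong hψ).mp (fixed_ext (fixed_ofKap (c + d)) hf (by rw [map_add, kap_ofKap, kap_ofKap, kap_ofKap])),
      hψ.1, ← hq, ← hq']
    rfl
  have hzero : ok 0 := one (psi_liftQ hS hψ 0) (by simp [liftQ, gval])
  have hgood : ∀ c, InU c ∨ InW c → ok c := by
    intro c hc q hq
    obtain ⟨y, hy, hn⟩ := (fixed64_iff (fixed_ofKap c)).mpr (by rwa [kap_ofKap])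
    refine hN _ (mem_fixQ.mpr ⟨gval_mem q, ((fixed_iff_commute hS hψ hb hbz he hq).mp (fixed_ofKap c)).symm⟩) ?_
    exact ((isConj_iff_norm64 orbitFacts hS hψ q).mpr ⟨y, hn, by rw [(psi_cong hψ).mp hy, hq]⟩).1
  have hall : ∀ c, ok c := by
    intro c
    let u : Fin 6 → ZMod 2 := fun k => if k.val < 3 then c k else 0
    let w : Fin 6 → ZMod 2 := fun k => if k.val < 3 then 0 else c k
    have hu : ok u := by
      by_cases h : u = 0
      · rw [h]; exact hzero
      · exact hgood _ (Or.inl ⟨h, rfl, rfl, rfl⟩)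
    have hw : ok w := by
      by_cases h : w = 0
      · rw [h]; exact hzero
      · exact hgood _ (Or.inr ⟨h, rfl, rfl, rfl⟩)
    have : c = u + w := funext fun k => by
      simp only [u, w, Pi.add_apply]; split_ifs <;> simp
    rw [this]; exact hadd hu hw
  intro x hx
  obtain ⟨⟨c, ε⟩, rfl⟩ := exists_fixEl hS hψ hb hbz he hx
  obtain ⟨q, hq, hqc⟩ := exists_q_fixEl hS hψ (c, ε)
  rw [← hq]
  exact hall c q hqc

include hS hψ hb he in
/-- No normal `p`-subgroup of `C(b)` lies outside `⟨b⟩`. -/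
theorem pgroup_le_zpowers {p : ℕ} [hp : Fact p.Prime] {r : G} (hr : r ∈ fixQ Q b) (hrc : IsConj z r) (hrz : r ≠ z)
    {N : Subgroup ↥(Subgroup.centralizer (Subgroup.zpowers b : Set G))} (hn : N.Normal) (hN : IsPGroup p N) :
    ∀ x ∈ N, (x : G) ∈ Subgroup.zpowers b := by
  classical
  have : Fact (Nat.Prime 7) := ⟨by norm_num⟩
  obtain ⟨hA, -, -⟩ := setting_extraAt hS
  set M : Subgroup G := N.map (Subgroup.centralizer (Subgroup.zpowers b : Set G)).subtype with hM
  have hMC : ∀ {m : G}, m ∈ M → m * b = b * m := by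
    rintro _ ⟨n, -, rfl⟩
    exact mem_centralizer_zpowers.mp n.2
  have hMn : ∀ {m h : G}, m ∈ M → h * b = b * h → h * m * h⁻¹ ∈ M := by
    rintro _ h ⟨n, hn', rfl⟩ hh
    exact ⟨_, hn.conj_mem n hn' ⟨h, mem_centralizer_zpowers.mpr hh⟩, rfl⟩
  have hMp : IsPGroup p M := hN.map _
  suffices h : ∀ m ∈ M, m ∈ Subgroup.zpowers b from fun x hx => h _ ⟨x, hx, rfl⟩
  have hbcz : b * z = z * b := Subgroup.mem_centralizer_singleton_iff.mp hbz
  have hrb : r * b = b * r := (mem_fixQ.mp hr).2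
  -- the part commuting with `z`
  have hfix : ∀ m ∈ M, m * z = z * m → ∃ q ∈ fixQ Q b, q⁻¹ * m ∈ Subgroup.zpowers b := by
    intro m hm hmz
    have h1 : ((M.subgroupOf (czb z b))).Normal := ⟨fun n hn' g => hMn hn' (mem_czb.mp g.2).2⟩
    have h2 : IsPGroup p (M.subgroupOf (czb z b)) :=
      hMp.comap_of_injective (czb z b).subtype Subtype.val_injective
    exact pgroup_le_kernel hS hb hbz he h1 h2 ⟨m, mem_czb.mpr ⟨hmz, hMC hm⟩⟩ hm
  by_cases hp2 : p = 2
  · subst hp2
    by_contra hne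
    push Not at hne
    obtain ⟨m0, hm0, hm0b⟩ := hne
    -- elements commuting with `z` lie in `C_Q(b)`
    have hfix2 : ∀ m ∈ M, m * z = z * m → m ∈ fixQ Q b := by
      intro m hm hmz
      obtain ⟨q, hq, hqm⟩ := hfix m hm hmz
      suffices q⁻¹ * m = 1 by rwa [← inv_mul_eq_one.mp this]
      obtain ⟨k, hk⟩ := hMp ⟨m, hm⟩
      have hk' : m ^ 2 ^ k = 1 := congrArg Subtype.val hk
      obtain ⟨j, hj⟩ := (hS.2.2.1.1.1.map (cz z).subtype) ⟨q, hq.1⟩
      have hj' : q ^ 2 ^ j = 1 := congrArg Subtype.val hj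
      obtain ⟨a, ha⟩ := Subgroup.mem_zpowers_iff.mp hqm
      have hcomm : Commute q⁻¹ m := by
        have hqa : Commute q (b ^ a) := (show Commute q b from hq.2 |> fun _ => (mem_fixQ.mp hq).2).zpow_right a
        rw [show m = q * b ^ a by rw [ha, mul_inv_cancel_left]]
        exact ((Commute.refl q).mul_right hqa).inv_left
      have h2 : (q⁻¹ * m) ^ (2 ^ j * 2 ^ k) = 1 := by
        rw [hcomm.mul_pow, inv_pow, pow_mul, hj', one_pow, inv_one, one_mul, mul_comm, pow_mul, hk', one_pow]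
      have h3 : orderOf (q⁻¹ * m) ∣ 7 := hb ▸ orderOf_dvd_of_mem_zpowers hqm
      have h4 := Nat.dvd_gcd (orderOf_dvd_of_pow_eq_one h2) h3
      rw [← pow_add, Nat.Coprime.pow_left _ (by norm_num : Nat.Coprime 2 7)] at h4
      exact orderOf_eq_one_iff.mp (Nat.dvd_one.mp h4)
    -- some nontrivial element commutes with `z`
    letI : MulAction (Subgroup.zpowers z) M :=
      { smul := fun a m => ⟨(a : G) * m * (a : G)⁻¹, hMn m.2 (by
          obtain ⟨n, hn'⟩ := Subgroup.mem_zpowers_iff.mp a.2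
          rw [← hn']; exact ((show Commute z b from hbcz.symm).zpow_left n).eq)⟩
        one_smul := fun m => Subtype.ext (by show (1 : G) * m * 1⁻¹ = m; group)
        mul_smul := fun a c m => Subtype.ext (by
          show (a : G) * c * m * ((a : G) * c)⁻¹ = a * (c * m * (c : G)⁻¹) * (a : G)⁻¹
          group) }
    have hzp : IsPGroup 2 (Subgroup.zpowers z) := IsPGroup.of_card (n := 1) (by rw [Nat.card_zpowers, hA.order_z]; rfl)
    have hdvd : 2 ∣ Nat.card M := by
      obtain ⟨k, hk⟩ := IsPGroup.iff_card.mp hMp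
      rcases Nat.eq_zero_or_pos k with rfl | hkpos
      · exfalso
        rw [pow_zero] at hk
        rw [Subgroup.eq_bot_of_card_eq M hk] at hm0
        exact hm0b (by rw [Subgroup.mem_bot.mp hm0]; exact one_mem _)
      · rw [hk]; exact dvd_pow_self 2 hkpos.ne'
    have h1fix : (1 : M) ∈ MulAction.fixedPoints (Subgroup.zpowers z) M := fun a =>
      Subtype.ext (by show (a : G) * 1 * (a : G)⁻¹ = 1; group)
    obtain ⟨m1, hm1, hm1ne⟩ := hzp.exists_fixed_point_of_prime_dvd_card_of_fixed_point M hdvd h1fix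
    have hm1z : (m1 : G) * z = z * m1 := by
      have := congrArg Subtype.val (hm1 ⟨z, Subgroup.mem_zpowers z⟩)
      exact (mul_inv_eq_iff_eq_mul.mp this).symm
    have hzM : z ∈ M := by
      have hm1Q := hfix2 _ m1.2 hm1z
      by_cases hm1e : (m1 : G) = z
      · rw [← hm1e]; exact m1.2
      have hx := fixQ_nondeg hS hψ hb hbz he _ hm1Q
      by_cases hc : ∀ y ∈ fixQ Q b, y * (m1 : G) = m1 * y
      · rcases hx hc with e1 | e1
        · exact absurd (Subtype.ext e1.symm) hm1ne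
        · exact absurd e1 hm1e
      push Not at hc
      obtain ⟨y, hy, hyne⟩ := hc
      rcases hA.conj_cases hy.1 hm1Q.1 with e1 | e1
      · exact absurd (mul_inv_eq_iff_eq_mul.mp e1) hyne
      · have := mul_mem (hMn m1.2 (mem_fixQ.mp hy).2) (inv_mem m1.2)
        rwa [e1, mul_inv_cancel_right] at this
    have hQM : fixQ Q b ≤ M := fixQ_le_of_conj hS hψ hb hbz he hzM fun x hx hxc => by
      by_cases hxz : x = z
      · rw [hxz]; exact hzM
      obtain ⟨h, hhb, hh⟩ := exists_conj_commute (w := 12) (by norm_num) hS (l := 7) (by norm_num) hb hbcz hx.1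
        (mem_fixQ.mp hx).2.symm hxc hxz
      rw [← hh]; exact hMn hzM hhb
    -- the centre of `M`
    have : Nontrivial M := ⟨⟨⟨z, hzM⟩, 1, fun e1 => hA.ne_one (congrArg Subtype.val e1)⟩⟩
    obtain ⟨c, hc, hcne⟩ := (Subgroup.nontrivial_iff_exists_ne_one _).mp hMp.center_nontrivial
    have hcall : ∀ m ∈ M, m * (c : G) = c * m := fun m hm =>
      congrArg Subtype.val (Subgroup.mem_center_iff.mp hc ⟨m, hm⟩)
    have hcQ := hfix2 _ c.2 (hcall z hzM).symm
    have hcz : (c : G) = z := by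
      rcases fixQ_nondeg hS hψ hb hbz he _ hcQ (fun y hy => hcall y (hQM hy)) with e1 | e1
      · exact absurd (Subtype.ext e1) hcne
      · exact e1
    obtain ⟨h, hhb, hh⟩ := exists_conj_commute (w := 12) (by norm_num) hS (l := 7) (by norm_num) hb hbcz hr.1
      hrb.symm hrc hrz
    have hrall : ∀ y ∈ fixQ Q b, y * r = r * y := fun y hy => by
      have hhi : h⁻¹ * b = b * h⁻¹ := ((show Commute h b from hhb).inv_left).eq
      have hm := hMn (hQM hy) hhi
      rw [inv_inv] at hm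
      have := hcall _ hm
      rw [hcz] at this
      calc y * r = h * (h⁻¹ * y * h * z) * h⁻¹ := by rw [← hh]; group
        _ = h * (z * (h⁻¹ * y * h)) * h⁻¹ := by rw [this]
        _ = r * y := by rw [← hh]; group
    rcases fixQ_nondeg hS hψ hb hbz he r hr hrall with e1 | e1
    · rw [e1, isConj_one_left] at hrc; exact hA.ne_one hrc
    · exact hrz e1
  -- `p` odd: a four-group acts with fixed points in `⟨b⟩`
  have hodd : ∀ m ∈ M, ∀ n : ℕ, m ^ n = 1 → n ≠ 0 → ∃ k, Odd k ∧ m ^ k = 1 := fun m hm n _ _ => by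
    obtain ⟨k, hk⟩ := hMp ⟨m, hm⟩
    exact ⟨p ^ k, (hp.out.odd_of_ne_two hp2).pow, congrArg Subtype.val hk⟩
  have hfz : ∀ m ∈ M, m * z = z * m → m ∈ Subgroup.zpowers b := by
    intro m hm hmz
    obtain ⟨q, hq, hqm⟩ := hfix m hm hmz
    obtain ⟨k, hk, hmk⟩ := hodd m hm _ (pow_orderOf_eq_one m) (orderOf_pos m).ne'
    obtain ⟨j, hj⟩ := (hS.2.2.1.1.1.map (cz z).subtype) ⟨q, hq.1⟩
    have hj' : q ^ 2 ^ j = 1 := congrArg Subtype.val hj
    obtain ⟨a, ha⟩ := Subgroup.mem_zpowers_iff.mp hqm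
    have hqa : Commute q (b ^ a) := (show Commute q b from (mem_fixQ.mp hq).2).zpow_right a
    have hm' : m = q * b ^ a := by rw [ha, mul_inv_cancel_left]
    have hqk : q ^ k ∈ Subgroup.zpowers b := by
      rw [hm', hqa.mul_pow, mul_eq_one_iff_eq_inv] at hmk
      rw [hmk]; exact inv_mem (pow_mem (zpow_mem (Subgroup.mem_zpowers b) a) k)
    have hqk1 : q ^ k = 1 := by
      have : Fact (Nat.Prime 2) := ⟨Nat.prime_two⟩
      exact eq_one_of_two_odd (hS.2.2.1.1.1.map (cz z).subtype) (by norm_num : (7 : ℕ) ≠ 2) hb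
        (pow_mem hq.1 k) hqk
    have hq1 : q = 1 := by
      have h4 := Nat.dvd_gcd (orderOf_dvd_of_pow_eq_one hj') (orderOf_dvd_of_pow_eq_one hqk1)
      rw [Nat.Coprime.pow_left j (Nat.coprime_two_left.mpr hk)] at h4
      exact orderOf_eq_one_iff.mp (Nat.dvd_one.mp h4)
    rw [hm', hq1, one_mul]
    exact zpow_mem (Subgroup.mem_zpowers b) a
  have hfa : ∀ a : G, (∃ h : G, h * b = b * h ∧ h * z * h⁻¹ = a) → ∀ m ∈ M, m * a = a * m → m ∈ Subgroup.zpowers b := by
    rintro a ⟨h, hh, rfl⟩ m hm hma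
    have hhi : h⁻¹ * b = b * h⁻¹ := ((show Commute h b from hh).inv_left).eq
    have h1 := hMn hm hhi
    rw [inv_inv] at h1
    have h2 := hfz _ h1 (by
      calc h⁻¹ * m * h * z = h⁻¹ * (m * (h * z * h⁻¹)) * h := by group
        _ = h⁻¹ * (h * z * h⁻¹ * m) * h := by rw [hma]
        _ = z * (h⁻¹ * m * h) := by group)
    obtain ⟨n, hn'⟩ := Subgroup.mem_zpowers_iff.mp h2
    have : m = b ^ n := by
      calc m = h * (h⁻¹ * m * h) * h⁻¹ := by group
        _ = h * b ^ n * h⁻¹ := by rw [← hn']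
        _ = b ^ n := by rw [((show Commute h b from hh).zpow_right n).eq, mul_inv_cancel_right]
    rw [this]; exact zpow_mem (Subgroup.mem_zpowers b) n
  -- each such involution inverts `M` modulo `⟨b⟩`
  have hinv : ∀ a : G, a * a = 1 → a * b = b * a → (∀ m ∈ M, m * a = a * m → m ∈ Subgroup.zpowers b) →
      ∀ m ∈ M, a * m * a * m ∈ Subgroup.zpowers b := by
    intro a ha hab hf m hm
    have hai : a⁻¹ = a := inv_eq_of_mul_eq_one_right ha
    have hy : m⁻¹ * (a * m * a) ∈ M := mul_mem (inv_mem hm) (by simpa [hai] using hMn hm hab)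
    set y := m⁻¹ * (a * m * a) with hydef
    obtain ⟨k, hk, hyk⟩ := hodd y hy _ (pow_orderOf_eq_one y) (orderOf_pos y).ne'
    obtain ⟨l, hl⟩ := hk
    set i := y ^ (l + 1) with hidef
    have hii : i * i = y := by
      rw [hidef, ← pow_add, show l + 1 + (l + 1) = k + 1 by omega, pow_succ, hyk, one_mul]
    have hay : a * y * a = y⁻¹ := by
      rw [hydef]
      calc a * (m⁻¹ * (a * m * a)) * a = a * m⁻¹ * a * m * (a * a) := by group
        _ = (a⁻¹ * m⁻¹ * a⁻¹) * m := by rw [ha, hai, mul_one]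
        _ = (m⁻¹ * (a * m * a))⁻¹ := by group
    have hainv : a * i * a = i⁻¹ := by
      have hc : a * i * a = (a * y * a) ^ (l + 1) := by
        have h1 := (conj_pow (a := a) (b := y) (i := l + 1)).symm
        rw [hai] at h1
        rw [hidef]; exact h1
      rw [hc, hay, inv_pow]
    have hfc : m * i * a = a * (m * i) := by
      calc m * i * a = m * (a * a) * i * a := by rw [ha, mul_one]
        _ = m * a * (a * i * a) := by group
        _ = m * a * i⁻¹ := by rw [hainv]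
        _ = a * (a * m * a) * i⁻¹ := by
            calc m * a * i⁻¹ = (a * a) * (m * a) * i⁻¹ := by rw [ha, one_mul]
              _ = a * (a * m * a) * i⁻¹ := by group
        _ = a * (m * y) * i⁻¹ := by rw [hydef, mul_inv_cancel_left]
        _ = a * (m * i) := by rw [← hii]; group
    have hf' := hf _ (mul_mem hm (pow_mem hy _)) hfc
    have hfb : m * i * m = m * (m * i) := by
      obtain ⟨n, hn'⟩ := Subgroup.mem_zpowers_iff.mp hf'
      rw [← hn']
      exact ((show Commute b m from (hMC hm).symm).zpow_left n).eq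
    have : a * m * a * m = (m * i) * (m * i) := by
      calc a * m * a * m = m * y * m := by rw [hydef, mul_inv_cancel_left]
        _ = m * i * (i * m) := by rw [← hii]; group
        _ = (m * i) * (m * i) := by
            have him : i * m = m * i := mul_left_cancel (hfb ▸ (mul_assoc m i m).symm)
            rw [him]
    rw [this]; exact mul_mem hf' hf'
  have hr2 : r * r = 1 := by
    obtain ⟨g, rfl⟩ := isConj_iff.mp hrc
    calc g * z * g⁻¹ * (g * z * g⁻¹) = g * (z * z) * g⁻¹ := by group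
      _ = 1 := by rw [hA.sq_one]; group
  have hzr : r * z = z * r := hA.comm_z hr.1
  have hzrmem : z * r ∈ fixQ Q b := mem_fixQ.mpr ⟨mul_mem hA.z_mem hr.1,
    (((show Commute z b from hbcz.symm)).mul_left (show Commute r b from hrb)).eq⟩
  have hzrz : z * r ≠ z := fun e1 => by
    rw [mul_eq_left] at e1
    rw [e1, isConj_one_left] at hrc; exact hA.ne_one hrc
  obtain ⟨hrQc, hrQ⟩ := mem_qm.mp hr.1
  obtain ⟨y, hy, hyr⟩ := isConj_mul_z hS (x := (⟨⟨r, hrQc⟩, hrQ⟩ : Q))
    (fun e1 => by rw [show r = 1 from e1, isConj_one_left] at hrc; exact hA.ne_one hrc) hrz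
  have hzrc : IsConj z (z * r) := hrc.trans (isConj_iff.mpr ⟨y, hyr⟩)
  intro m hm
  have hz' := hinv z hA.sq_one hbcz.symm hfz
  have hr' := hinv r hr2 hrb (hfa r (exists_conj_commute (w := 12) (by norm_num) hS (l := 7) (by norm_num) hb hbcz hr.1
    hrb.symm hrc hrz))
  have hzr2 : z * r * (z * r) = 1 := by
    calc z * r * (z * r) = z * (r * z) * r := by group
      _ = (z * z) * (r * r) := by rw [hzr]; group
      _ = 1 := by rw [hA.sq_one, hr2, one_mul]
  have hzr' := hinv (z * r) hzr2 (mem_fixQ.mp hzrmem).2 (hfa _ (exists_conj_commute (w := 12) (by norm_num) hS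
    (l := 7) (by norm_num) hb hbcz hzrmem.1 (mem_fixQ.mp hzrmem).2.symm hzrc hzrz))
  -- inverted three times
  have hrm : r * m * r ∈ M := by
    have := hMn hm hrb
    rwa [inv_eq_of_mul_eq_one_right hr2] at this
  have h1 : z * r * m * r * z * m ∈ Subgroup.zpowers b := by
    have := hzr' m hm
    rwa [show z * r * m * (z * r) * m = z * r * m * r * z * m by
      rw [show z * r * m * (z * r) = z * r * m * (r * z) by rw [hzr]]; group] at this
  have h2 : z * (r * m * r) * z * (r * m * r) ∈ Subgroup.zpowers b := hz' _ hrm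
  have h3 : m⁻¹ * (r * m * r) ∈ Subgroup.zpowers b := by
    have := mul_mem (inv_mem h1) h2
    rwa [show (z * r * m * r * z * m)⁻¹ * (z * (r * m * r) * z * (r * m * r)) = m⁻¹ * (r * m * r) by group] at this
  have h4 : m * m ∈ Subgroup.zpowers b := by
    have hb4 : ∀ x ∈ Subgroup.zpowers b, m * x * m⁻¹ = x := by
      intro x hx
      obtain ⟨n, rfl⟩ := Subgroup.mem_zpowers_iff.mp hx
      exact mul_inv_eq_iff_eq_mul.mpr ((show Commute m b from hMC hm).zpow_right n).eq
    have h5 := mul_mem (inv_mem h3) (show m⁻¹ * (r * m * r * m) * m ∈ Subgroup.zpowers b by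
      have hh := hr' m hm
      have := hb4 _ hh
      rwa [show m⁻¹ * (r * m * r * m) * m = r * m * r * m by
        calc m⁻¹ * (r * m * r * m) * m = m⁻¹ * (m * (r * m * r * m) * m⁻¹) * m := by rw [this]
          _ = r * m * r * m := by group])
    rwa [show (m⁻¹ * (r * m * r))⁻¹ * (m⁻¹ * (r * m * r * m) * m) = m * m by group] at h5
  obtain ⟨k, ⟨l, hl⟩, hmk⟩ := hodd m hm _ (pow_orderOf_eq_one m) (orderOf_pos m).ne'
  have : m = (m * m) ^ (l + 1) := by
    rw [← pow_two, ← pow_mul, show 2 * (l + 1) = k + 1 by omega, pow_succ, hmk, one_mul]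
  rw [this]; exact pow_mem h4 _

include hS hψ hb he in
/-- The Fitting subgroup of `C(b)` lies in `⟨b⟩`. -/
theorem fitting_le_zpowers {r : G} (hr : r ∈ fixQ Q b) (hrc : IsConj z r) (hrz : r ≠ z) :
    Cfsg.fittingSubgroup ↥(Subgroup.centralizer (Subgroup.zpowers b : Set G)) ≤
      (Subgroup.zpowers b).subgroupOf (Subgroup.centralizer (Subgroup.zpowers b : Set G)) := by
  rw [CfsgLib.Fitting.fitting_eq_iSup_pCore]
  refine iSup_le fun q x hx => ?_
  have : Fact (Nat.Prime (q : ℕ)) := ⟨Nat.prime_of_mem_primeFactors q.2⟩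
  exact pgroup_le_zpowers hS hψ hb hbz he hr hrc hrz (Cfsg.pCore_normal _ _) CfsgLib.PCore.pCore_isPGroup x hx

end CfsgLib.MonsterType.HeldNorm
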