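import Cfsg.Agent.Lib.MonsterType.Held.Frames

/-! Data: a frame of eigenvectors of an involution inverting the permutation of order 7. -/

set_option autoImplicit false

namespace CfsgLib.MonsterType.HeldNorm

/-- The eigenvectors, forming a frame. -/
def rowsEtaL : List (List ℤ) := [
  [3,1,3,1,1,1,3,-1,1,-1,1,1,-1,-1,-3,-1,1,-1,-3,-1,-1,1,1,-1],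
  [3,1,-1,1,1,1,-1,-1,-3,-1,1,1,3,-1,1,3,-3,-1,1,-1,-1,1,1,-1],
  [3,1,-1,1,-3,1,-1,3,1,-1,-3,1,-1,-1,1,-1,1,-1,1,3,-1,1,1,-1],
  [3,1,-1,-3,1,1,-1,-1,1,-1,1,1,-1,-1,1,-1,1,3,1,-1,3,1,-3,-1],
  [3,-3,-1,1,1,-3,-1,-1,1,-1,1,-3,-1,-1,1,-1,1,-1,1,-1,-1,-3,1,-1],
  [1,3,1,-1,3,-1,1,1,3,1,-1,-1,1,1,-1,1,-1,1,3,1,-3,-1,-1,1],
  [1,-1,1,3,3,-1,-3,1,-1,1,-1,3,1,1,-1,1,3,1,-1,1,1,-1,-1,1],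
  [-1,1,-1,1,1,1,-1,-1,1,-5,1,1,-1,3,1,-1,1,-1,1,-1,-1,1,1,3],
  [1,-1,1,3,-1,-1,1,1,-1,1,3,-1,1,1,-1,-3,-1,1,3,1,1,3,-1,1],
  [1,-1,1,-1,-1,-1,1,1,-1,1,-1,3,1,1,3,-3,-1,1,-1,-3,-3,-1,-1,1],
  [-1,1,-1,1,1,1,-1,-1,1,3,1,1,-1,-5,1,-1,1,-1,1,-1,-1,1,1,3],
  [1,-1,1,-1,-1,-1,1,-3,-1,1,-1,3,-3,1,-1,1,-1,-3,3,1,1,-1,-1,1],
  [-1,1,-1,1,1,1,-1,-1,1,3,1,1,-1,3,1,-1,1,-1,1,-1,-1,1,1,-5],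
  [1,-1,1,-1,-1,3,1,1,-1,1,-1,-1,1,1,-1,1,3,1,3,-3,1,-1,3,1],
  [1,3,-3,3,-1,-1,1,1,-1,1,-1,-1,-3,1,-1,1,-1,1,-1,-3,1,-1,-1,1],
  [1,-1,1,-1,-1,-1,-3,1,3,1,-1,-1,1,1,-1,1,-1,-3,-1,-3,1,3,-1,1],
  [1,-1,1,-1,3,-1,1,1,-1,1,-1,-1,-3,1,3,1,-1,1,-1,1,1,3,3,1],
  [1,3,1,-1,-1,-1,1,1,-1,1,3,-1,1,1,3,1,3,-3,-1,1,1,-1,-1,1],
  [1,-1,1,-1,-1,3,-3,1,-1,1,3,-1,-3,1,-1,1,-1,1,-1,1,-3,-1,-1,1],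
  [1,-1,-3,-1,-1,-1,1,-3,-1,1,-1,-1,1,1,-1,1,3,1,-1,1,-3,3,-1,1],
  [1,-1,1,3,-1,3,1,-3,3,1,-1,-1,1,1,3,1,-1,1,-1,1,1,-1,-1,1],
  [1,-1,-3,-1,3,3,1,1,-1,1,-1,-1,1,1,-1,-3,-1,-3,-1,1,1,-1,-1,1],
  [1,-1,-3,-1,-1,-1,1,1,3,1,3,3,1,1,-1,1,-1,1,-1,1,1,-1,3,1],
  [1,3,1,-1,-1,-1,-3,-3,-1,1,-1,-1,1,1,-1,-3,-1,1,-1,1,1,-1,3,1]]

/-- The number of the code word carrying the negative eigenvectors. -/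
def dodIdx : ℕ := 1520

end CfsgLib.MonsterType.HeldNorm
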