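import Cfsg.Agent.Lib.MonsterType.HeldNorm.Data

/-! Kernel checks on the frame of eigenvectors. -/

set_option autoImplicit false
set_option maxRecDepth 20000

namespace CfsgLib.MonsterType.HeldNorm

open Cfsg CfsgLib.Golay

theorem testEta : frameTest rowsEtaL = true := by decide +kernel

end CfsgLib.MonsterType.HeldNorm
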