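import Cfsg.Agent.Lib.MonsterType.HeldNorm.Inverter

/-! Conjugation into a prescribed element modulo a 2-group; involutions over conjugates of sign changes. -/

set_option autoImplicit false

namespace CfsgLib.MonsterType.HeldNorm

open Cfsg CfsgLib.Golay CfsgLib.LargeExtra CfsgLib.MonsterType CfsgLib.MonsterType.Local CfsgLib.MonsterType.Held
open scoped Pointwise

/-- Two elements of the same odd prime order congruent modulo a normalized 2-group are conjugate by it. -/
theorem exists_conj_eq {G : Type*} [Group G] [Finite G] {l : ℕ} [hl : Fact l.Prime] (hl2 : l ≠ 2)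
    {P : Subgroup G} (hP : IsPGroup 2 P) {b c : G} (hb : orderOf b = l) (hc : orderOf c = l)
    (hn : ∀ p ∈ P, b * p * b⁻¹ ∈ P) (hx : c * b⁻¹ ∈ P) : ∃ p ∈ P, p * c * p⁻¹ = b := by
  have : Fact (Nat.Prime 2) := ⟨Nat.prime_two⟩
  have hnorm : Subgroup.zpowers b ≤ Subgroup.normalizer (P : Set G) := by
    rw [Subgroup.zpowers_le]
    let f : P → P := fun p => ⟨b * p * b⁻¹, hn p p.2⟩
    have hf : Function.Injective f := fun u v e =>
      Subtype.ext (mul_left_cancel (mul_right_cancel (congrArg Subtype.val e : b * (u : G) * b⁻¹ = b * v * b⁻¹)))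
    rw [Subgroup.mem_normalizer_iff]
    intro q
    refine ⟨hn q, fun hq => ?_⟩
    obtain ⟨p, hp⟩ := (Finite.injective_iff_surjective.mp hf) ⟨_, hq⟩
    rw [← mul_left_cancel (mul_right_cancel (congrArg Subtype.val hp : b * (p : G) * b⁻¹ = b * q * b⁻¹))]
    exact p.2
  set T := Subgroup.zpowers b ⊔ P with hT
  have hmem : ∀ {t : G}, t ∈ T → ∃ a ∈ Subgroup.zpowers b, ∃ p ∈ P, t = a * p := by
    intro t ht
    have h1 : t ∈ ((Subgroup.zpowers b : Set G) * (P : Set G)) := by
      rw [← Subgroup.coe_mul_of_left_le_normalizer_right _ _ hnorm]; exact ht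
    obtain ⟨a, ha, p, hp, e⟩ := h1
    exact ⟨a, ha, p, hp, e.symm⟩
  have hcT : c ∈ T := by
    have := mul_mem (Subgroup.mem_sup_right (S := Subgroup.zpowers b) hx)
      (Subgroup.mem_sup_left (T := P) (Subgroup.mem_zpowers b))
    simpa [inv_mul_cancel_right] using this
  have h49 : ¬ l ^ 2 ∣ Nat.card T := by
    intro h
    obtain ⟨k, hk⟩ := IsPGroup.iff_card.mp hP
    have hcard : Nat.card T = l * 2 ^ k := by
      rw [← hk, ← hb, ← Nat.card_zpowers, ← Nat.card_prod]
      refine (Nat.card_congr (Equiv.ofBijective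
        (fun ap => ⟨(ap.1 : G) * ap.2, mul_mem (Subgroup.mem_sup_left ap.1.2)
          (Subgroup.mem_sup_right ap.2.2)⟩) ⟨?_, ?_⟩)).symm
      · rintro ⟨a, p⟩ ⟨a', p'⟩ e
        have e' : (a : G) * p = a' * p' := congrArg Subtype.val e
        have h2 : (a' : G)⁻¹ * a = 1 := by
          refine eq_one_of_two_odd hP hl2 hb ?_ (mul_mem (inv_mem a'.2) a.2)
          have : (a' : G)⁻¹ * a = p' * (p : G)⁻¹ := by
            rw [inv_mul_eq_iff_eq_mul, ← mul_assoc, ← e', mul_inv_cancel_right]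
          rw [this]
          exact mul_mem p'.2 (inv_mem p.2)
        obtain rfl : a = a' := Subtype.ext (inv_mul_eq_one.mp h2).symm
        exact Prod.ext rfl (Subtype.ext (mul_left_cancel e'))
      · rintro ⟨t, ht⟩
        obtain ⟨a, ha, p, hp, rfl⟩ := hmem ht
        exact ⟨(⟨a, ha⟩, ⟨p, hp⟩), rfl⟩
    have h2 : l ∣ 2 ^ k := Nat.dvd_of_mul_dvd_mul_left hl.out.pos (by rw [← pow_two, ← hcard]; exact h)
    exact hl2 ((Nat.prime_dvd_prime_iff_eq hl.out Nat.prime_two).mp (hl.out.dvd_of_dvd_pow h2))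
  obtain ⟨⟨t, ht⟩, hconj⟩ := exists_conj_zpowers (H := T) (a := ⟨b, Subgroup.mem_sup_left (Subgroup.mem_zpowers b)⟩)
    (c := ⟨c, hcT⟩) (by rw [← hb]; exact (Subgroup.orderOf_coe _).symm)
    (by rw [← hc]; exact (Subgroup.orderOf_coe _).symm) h49
  obtain ⟨n, hn'⟩ := Subgroup.mem_zpowers_iff.mp hconj
  have hn'' : b ^ n = t * c * t⁻¹ := by simpa using congrArg Subtype.val hn'
  obtain ⟨a, ha, p, hp, rfl⟩ := hmem ht
  refine ⟨p, hp, ?_⟩
  have hin : p * c * p⁻¹ ∈ Subgroup.zpowers b := by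
    have : p * c * p⁻¹ = a⁻¹ * (a * p * c * (a * p)⁻¹) * a := by group
    rw [this, ← hn'']
    exact mul_mem (mul_mem (inv_mem ha) (zpow_mem (Subgroup.mem_zpowers b) n)) ha
  have hPin : p * c * p⁻¹ * b⁻¹ ∈ P := by
    have : p * c * p⁻¹ * b⁻¹ = p * (c * b⁻¹) * (b * p⁻¹ * b⁻¹) := by group
    rw [this]
    exact mul_mem (mul_mem hp hx) (hn _ (inv_mem hp))
  exact mul_inv_eq_one.mp (eq_one_of_two_odd hP hl2 hb hPin (mul_mem hin (inv_mem (Subgroup.mem_zpowers b))))

variable {G : Type*} [Group G] [Finite G] {z : G} {Q : Subgroup (cz z)} [Q.Normal]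
  {e : cz z ⧸ Q ≃* Spor.Co1} {ψ : leechLattice → Q ⧸ Subgroup.center Q}

/-- An involution lies over every conjugate of a sign change. -/
theorem exists_involution (hS : IsExtraspecialCentralizerSetting z Q 12) (hψ : IsLeechModTwoIso Q e ψ)
    {c : golayCode} (hc : sgnW c ∉ Subgroup.center Co0) (η : Co0) :
    ∃ x : cz z, (x : G) * x = 1 ∧ e (QuotientGroup.mk x) = QuotientGroup.mk (η * sgnW c * η⁻¹) := by
  classical
  obtain ⟨x0, hx0⟩ := QuotientGroup.mk_surjective (ψ (LeechEight.latE none))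
  obtain ⟨hconj, hne⟩ := (isConj_iff_norm64 orbitFacts hS hψ x0).mpr
    ⟨_, by simpa using sqNorm_image_latE 1 none, hx0.symm⟩
  obtain ⟨g, hg⟩ := isConj_iff.mp hconj
  obtain ⟨hE, hN⟩ := preE_frame hS hψ hx0.symm hg hne
  have h := setting_pairAt hS (hg ▸ gval_mem x0) (hg ▸ hne)
  have hmem : sgnW c ∈ preE e g := hN ▸ ⟨Multiplicative.ofAdd c, rfl⟩
  obtain ⟨_, ⟨d, hd, rfl⟩, hde⟩ := hmem
  obtain ⟨hdW, -⟩ := hd
  have hde' : e (QuotientGroup.mk d) = QuotientGroup.mk (sgnW c) := hde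
  -- adjust inside `Q ∩ Q^g`
  obtain ⟨r, hrQ, hsq⟩ : ∃ r : G, r ∈ qm Q ∧ (d : G) * r * ((d : G) * r) = 1 := by
    replace hdW : (d : G) ∈ (qm Q).map (MulAut.conj g).toMonoidHom := hdW
    rcases h.W_sq_cases hdW with e1 | e1
    · exact ⟨1, one_mem _, by rw [mul_one]; exact e1⟩
    set W := (qm Q).map (MulAut.conj g).toMonoidHom with hW
    set D := qm Q ⊓ W with hD
    have hDcard : Nat.card D = 2 ^ 13 := (frame_facts hS hψ hx0.symm hg hne).1
    have hDcomm : ∀ a ∈ D, ∀ b ∈ D, a * b = b * a := by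
      intro a ha b hb
      rcases h.conj_cases ha.1 hb.1 with e2 | e2
      · exact mul_inv_eq_iff_eq_mul.mp e2
      · rcases h.W_conj_cases ha.2 hb.2 with e3 | e3
        · exact mul_inv_eq_iff_eq_mul.mp e3
        · exact absurd (mul_right_cancel (e2.symm.trans e3)) (fun e4 => h.conj_ne e4.symm)
    have hdD : (d : G) ∉ D := fun hdD => hc (by
      have : (QuotientGroup.mk d : cz z ⧸ Q) = 1 := (QuotientGroup.eq_one_iff _).mpr (coe_mem_qm.mp hdD.1)
      rw [this, map_one, eq_comm, QuotientGroup.eq_one_iff] at hde'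
      exact hde')
    by_cases hall : ∀ r ∈ D, (d : G) * r = r * d
    · exfalso
      -- an abelian subgroup of `Q^g` which is too large
      set A := Subgroup.closure ((D : Set G) ∪ {(d : G)}) with hA
      have hAW : A ≤ W := (Subgroup.closure_le _).mpr (Set.union_subset (fun a ha => ha.2) (by simpa using hdW))
      have hgen : ∀ a ∈ (D : Set G) ∪ {(d : G)}, ∀ b ∈ (D : Set G) ∪ {(d : G)}, a * b = b * a := by
        rintro a (ha | rfl) b (hb | rfl)
        · exact hDcomm a ha b hb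
        · exact (hall a ha).symm
        · exact hall b hb
        · rfl
      have hAc := Subgroup.isMulCommutative_closure hgen
      set A' := A.comap (MulAut.conj g).toMonoidHom with hA'
      have hA'le : A' ≤ qm Q := fun a ha => by
        obtain ⟨q, hq, hqa⟩ := hAW ha
        rwa [(MulAut.conj g).injective hqa.symm]
      have hA'c : IsMulCommutative (A'.subgroupOf (qm Q)) := ⟨⟨fun a b => Subtype.ext (Subtype.ext
        ((MulAut.conj g).injective (by
          simp only [Subgroup.coe_mul]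
          rw [map_mul, map_mul]
          exact congrArg Subtype.val (hAc.is_comm.comm ⟨_, a.2⟩ ⟨_, b.2⟩))))⟩⟩
      have : Fact (Nat.Prime 2) := ⟨Nat.prime_two⟩
      have hb := CfsgLib.PGroup.extraspecial_abelian_card h.extra _ hA'c
      rw [Nat.card_congr (Subgroup.subgroupOfEquivOfLe hA'le).toEquiv, card_qm, hS.2.2.2.1,
        hA', Subgroup.comap_equiv_eq_map_symm', Subgroup.card_map_of_injective (MulAut.conj g).symm.injective] at hb
      have hlt : Nat.card D < Nat.card A := by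
        refine lt_of_le_of_ne (Subgroup.card_le_of_le (fun a ha => Subgroup.subset_closure (Or.inl ha))) fun e2 => hdD ?_
        rw [Subgroup.eq_of_le_of_card_ge (K := A) (fun a ha => Subgroup.subset_closure (Or.inl ha)) e2.ge]
        exact Subgroup.subset_closure (Or.inr rfl)
      rw [hDcard] at hlt
      have h2 : (2 ^ 13 + 1) * (2 ^ 13 + 1) ≤ Nat.card A * Nat.card A := Nat.mul_le_mul hlt hlt
      norm_num at hb h2
      omega
    push Not at hall
    obtain ⟨r, hr, hne'⟩ := hall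
    refine ⟨r, hr.1, ?_⟩
    have h1 : (d : G) * r * (d : G)⁻¹ = g * z * g⁻¹ * r := by
      rcases h.W_conj_cases hdW hr.2 with e2 | e2
      · exact absurd (mul_inv_eq_iff_eq_mul.mp e2) hne'
      · exact e2
    have hr2 : r * r = 1 := by
      rcases h.sq_cases hr.1 with e2 | e2
      · exact e2
      · rcases h.W_sq_cases hr.2 with e3 | e3
        · exact e3
        · exact absurd (e3.symm.trans e2) h.conj_ne
    calc (d : G) * r * ((d : G) * r) = ((d : G) * r * (d : G)⁻¹) * ((d : G) * d) * r := by group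
      _ = g * z * g⁻¹ * (r * (g * z * g⁻¹)) * r := by rw [h1, e1]; group
      _ = g * z * g⁻¹ * (g * z * g⁻¹) * (r * r) := by rw [h.W_comm_s hr.2]; group
      _ = 1 := by rw [h.s_sq, hr2, one_mul]
  obtain ⟨hrc, hrQ'⟩ := mem_qm.mp hrQ
  obtain ⟨y, hy⟩ := exists_lift_Co0 e η
  refine ⟨y * (d * ⟨r, hrc⟩) * y⁻¹, ?_, ?_⟩
  · show (y : G) * ((d : G) * r) * (y : G)⁻¹ * ((y : G) * ((d : G) * r) * (y : G)⁻¹) = 1
    calc _ = (y : G) * ((d : G) * r * ((d : G) * r)) * (y : G)⁻¹ := by group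
      _ = 1 := by rw [hsq, mul_one, mul_inv_cancel]
  · simp only [QuotientGroup.mk_mul, QuotientGroup.mk_inv, map_mul, map_inv,
      (QuotientGroup.eq_one_iff (⟨r, hrc⟩ : cz z)).mpr hrQ', mul_one, hy, hde']

end CfsgLib.MonsterType.HeldNorm
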