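import Cfsg.Agent.Lib.MonsterType.HeldNorm.Lift
import Cfsg.Agent.Lib.MonsterType.HeldNorm.Core
import Cfsg.Agent.Lib.Components.FStar

/-! The normalizer of an element of order 7 in normal position: index 6 over the centralizer, with an
involution inverting it and acting as an outer automorphism of the layer of the centralizer. -/

set_option autoImplicit false

namespace CfsgLib.MonsterType.HeldNorm

open Cfsg CfsgLib.Golay CfsgLib.LargeExtra CfsgLib.MonsterType CfsgLib.MonsterType.Local CfsgLib.MonsterType.Held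

variable {G : Type*} [Group G] [Finite G] {z : G} {Q : Subgroup (cz z)} [Q.Normal]
  {e : cz z ⧸ Q ≃* Spor.Co1} {ψ : leechLattice → Q ⧸ Subgroup.center Q}
  {b : G} (hS : IsExtraspecialCentralizerSetting z Q 12) (hψ : IsLeechModTwoIso Q e ψ)
  (hb : orderOf b = 7) (hbz : b ∈ cz z) (he : e (QuotientGroup.mk ⟨b, hbz⟩) = QuotientGroup.mk sevW)

include hS hψ hb he in
/-- An involution commuting with `z` and inverting `b`. -/
theorem exists_inverter : ∃ t : cz z, (t : G) * t = 1 ∧ (t : G) * b * t = b⁻¹ := by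
  have : Fact (Nat.Prime 7) := ⟨by norm_num⟩
  have : Fact (Nat.Prime 2) := ⟨Nat.prime_two⟩
  obtain ⟨x, hx2, hxe⟩ := exists_involution hS hψ (c := dodW) dod_nontrivial' eta⁻¹
  rw [inv_inv, ← inv7_eq] at hxe
  set B' : cz z := ⟨b, hbz⟩ with hB'
  set w : cz z := B' ^ 4 * x * (B' ^ 4)⁻¹ * x with hw
  have hxx : x * x = 1 := Subtype.ext hx2
  have hxw : x * w * x = w⁻¹ := by
    rw [hw]
    simp only [mul_inv_rev, inv_inv, inv_eq_of_mul_eq_one_right hxx]
    calc x * (B' ^ 4 * x * (B' ^ 4)⁻¹ * x) * x = x * (B' ^ 4 * x * (B' ^ 4)⁻¹) * (x * x) := by group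
      _ = x * (B' ^ 4 * (x * (B' ^ 4)⁻¹)) := by rw [hxx, mul_one]; group
  have hwe : e (QuotientGroup.mk w) = QuotientGroup.mk sevW := by
    rw [hw]
    simp only [QuotientGroup.mk_mul, QuotientGroup.mk_inv, QuotientGroup.mk_pow, map_mul, map_inv, map_pow, he, hxe]
    rw [← QuotientGroup.mk_pow, ← QuotientGroup.mk_inv, ← QuotientGroup.mk_mul, ← QuotientGroup.mk_mul,
      ← QuotientGroup.mk_mul]
    congr 1
    have h1 : inv7⁻¹ = inv7 := inv_eq_of_mul_eq_one_right inv7_sq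
    calc sevW ^ 4 * inv7 * (sevW ^ 4)⁻¹ * inv7 = sevW ^ 4 * (inv7 * sevW * inv7⁻¹) ^ (-4 : ℤ) := by
          rw [conj_zpow, h1]; group
      _ = sevW ^ 4 * (sevW⁻¹) ^ (-4 : ℤ) := by rw [h1, inv7_conj]
      _ = sevW ^ 7 * sevW := by group
      _ = sevW := by rw [sevW_pow_seven, one_mul]
  have h7 : w ^ 7 ∈ Q := by
    rw [← QuotientGroup.eq_one_iff]
    apply e.injective
    rw [QuotientGroup.mk_pow, map_pow, hwe, ← QuotientGroup.mk_pow, sevW_pow_seven, map_one]
    rfl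
  obtain ⟨k, hk⟩ := hS.2.2.1.1.1 ⟨w ^ 7, h7⟩
  have hk' : (w ^ 7) ^ 2 ^ k = 1 := congrArg Subtype.val hk
  set c := w ^ (8 ^ k) with hcdef
  have hc7 : c ^ 7 = 1 := by
    rw [hcdef, ← pow_mul, mul_comm, pow_mul,
      show 8 ^ k = 2 ^ k * 4 ^ k by rw [← mul_pow]; norm_num, pow_mul, hk', one_pow]
  have hce : e (QuotientGroup.mk c) = QuotientGroup.mk sevW := by
    have h8 : sevW ^ (8 ^ k) = sevW := by
      rw [← Nat.mod_add_div (8 ^ k) 7, pow_add, pow_mul sevW 7, sevW_pow_seven, one_pow, mul_one, Nat.pow_mod]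
      norm_num
    rw [hcdef, QuotientGroup.mk_pow, map_pow, hwe, ← QuotientGroup.mk_pow, h8]
  have hcQ : c * B'⁻¹ ∈ Q := by
    rw [← QuotientGroup.eq_one_iff]
    apply e.injective
    rw [QuotientGroup.mk_mul, QuotientGroup.mk_inv, map_mul, map_inv, hce, he, mul_inv_cancel, map_one]
  have hxc : x * c * x = c⁻¹ := by
    have hxi : x⁻¹ = x := inv_eq_of_mul_eq_one_right hxx
    have h1 := (conj_pow (a := x) (b := w) (i := 8 ^ k)).symm
    rw [hxi, hxw, inv_pow] at h1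
    exact h1
  have hc1 : (c : G) ≠ 1 := by
    intro h
    have : c = 1 := Subtype.ext h
    rw [this] at hcQ
    rw [one_mul, inv_mem_iff] at hcQ
    have hbQ : b ∈ qm Q := coe_mem_qm.mpr hcQ
    have := eq_one_of_two_odd (isPGroup_qm hS) (by norm_num : (7 : ℕ) ≠ 2) hb hbQ (Subgroup.mem_zpowers b)
    rw [this, orderOf_one] at hb
    norm_num at hb
  have hn : ∀ p ∈ qm Q, b * p * b⁻¹ ∈ qm Q := fun p hp => by
    obtain ⟨hpc, hpQ⟩ := mem_qm.mp hp
    exact mem_qm.mpr ⟨mul_mem (mul_mem hbz hpc) (inv_mem hbz),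
      (inferInstance : Q.Normal).conj_mem ⟨p, hpc⟩ hpQ ⟨b, hbz⟩⟩
  obtain ⟨p, hp, hpc⟩ := exists_conj_eq (l := 7) (by norm_num) (isPGroup_qm hS) hb
    (orderOf_eq_of_pow (show (c : G) ^ 7 = 1 from congrArg Subtype.val hc7) hc1) hn
    (coe_mem_qm.mpr hcQ : ((c * B'⁻¹ : cz z) : G) ∈ qm Q)
  obtain ⟨hpz, -⟩ := mem_qm.mp hp
  refine ⟨⟨p, hpz⟩ * x * ⟨p, hpz⟩⁻¹, ?_, ?_⟩
  · show p * x * p⁻¹ * (p * x * p⁻¹) = 1
    calc p * (x : G) * p⁻¹ * (p * x * p⁻¹) = p * ((x : G) * x) * p⁻¹ := by group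
      _ = 1 := by rw [hx2, mul_one, mul_inv_cancel]
  · show p * x * p⁻¹ * b * (p * x * p⁻¹) = b⁻¹
    have hxc' : (x : G) * c * x = (c : G)⁻¹ := congrArg Subtype.val hxc
    rw [← hpc]
    calc p * (x : G) * p⁻¹ * (p * c * p⁻¹) * (p * x * p⁻¹) = p * ((x : G) * c * x) * p⁻¹ := by group
      _ = (p * c * p⁻¹)⁻¹ := by rw [hxc']; group

include hS hb he in
/-- An element commuting with `z` and squaring `b`. -/
theorem exists_squarer : ∃ y : cz z, (y : G) * b * (y : G)⁻¹ = b ^ 2 := by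
  have : Fact (Nat.Prime 7) := ⟨by norm_num⟩
  obtain ⟨π, hπ⟩ := exists_square
  obtain ⟨c0, hc0⟩ := exists_lift_Co0 e (permW π)
  have hb1 : b ≠ 1 := fun h => by rw [h, orderOf_one] at hb; norm_num at hb
  have h2 : orderOf (b ^ 2) = 7 := by
    rw [orderOf_pow' b two_ne_zero, hb]
    norm_num
  have h7 : orderOf ((c0 : G) * b * (c0 : G)⁻¹) = 7 := by
    refine orderOf_eq_of_pow ?_ fun h => hb1 ?_
    · rw [conj_pow, ← hb, pow_orderOf_eq_one, mul_one, mul_inv_cancel]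
    · calc b = (c0 : G)⁻¹ * ((c0 : G) * b * (c0 : G)⁻¹) * c0 := by group
        _ = 1 := by rw [h]; group
  have hn : ∀ p ∈ qm Q, b ^ 2 * p * (b ^ 2)⁻¹ ∈ qm Q := fun p hp => by
    obtain ⟨hpc, hpQ⟩ := mem_qm.mp hp
    exact mem_qm.mpr ⟨mul_mem (mul_mem (pow_mem hbz 2) hpc) (inv_mem (pow_mem hbz 2)),
      (inferInstance : Q.Normal).conj_mem ⟨p, hpc⟩ hpQ (⟨b, hbz⟩ ^ 2)⟩
  have hmod : (c0 * ⟨b, hbz⟩ * c0⁻¹ * (⟨b, hbz⟩ ^ 2)⁻¹ : cz z) ∈ Q := by
    rw [← QuotientGroup.eq_one_iff]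
    apply e.injective
    simp only [QuotientGroup.mk_mul, QuotientGroup.mk_inv, QuotientGroup.mk_pow, map_mul, map_inv, map_pow, map_one, hc0, he]
    rw [← QuotientGroup.mk_inv, ← QuotientGroup.mk_mul, ← QuotientGroup.mk_mul, hπ, ← QuotientGroup.mk_pow,
      mul_inv_cancel]
  obtain ⟨p, hp, hpc⟩ := exists_conj_eq (l := 7) (by norm_num) (isPGroup_qm hS) h2 h7 hn (coe_mem_qm.mpr hmod)
  obtain ⟨hpz, -⟩ := mem_qm.mp hp
  refine ⟨⟨p, hpz⟩ * c0, ?_⟩
  show p * c0 * b * (p * (c0 : G))⁻¹ = b ^ 2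
  rw [← hpc]; group

include hS hψ hb he in
/-- The normalizer induces the whole automorphism group. -/
theorem relIndex_eq_six : (Subgroup.centralizer (Subgroup.zpowers b : Set G)).relIndex
    (Subgroup.normalizer (Subgroup.zpowers b : Set G)) = 6 := by
  have hbn : ∀ (g : G) (k : ℕ), g * b * g⁻¹ = b ^ k → g ∈ Subgroup.normalizer (Subgroup.zpowers b : Set G) := by
    intro g k hg
    refine Subgroup.mem_normalizer_iff_map_conj_eq.mpr
      (Subgroup.eq_of_le_of_card_ge ?_ (Nat.card_congr (Subgroup.equivMapOfInjective _ (MulAut.conj g).toMonoidHom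
        (MulAut.conj g).injective).toEquiv).le)
    rw [Subgroup.map_le_iff_le_comap, Subgroup.zpowers_le]
    show g * b * g⁻¹ ∈ Subgroup.zpowers b
    rw [hg]; exact pow_mem (Subgroup.mem_zpowers b) k
  obtain ⟨t, ht2, htb⟩ := exists_inverter hS hψ hb hbz he
  obtain ⟨y, hy⟩ := exists_squarer hS hb hbz he
  set g := (t : G) * y with hg
  have hgb : g * b * g⁻¹ = b ^ 5 := by
    have hti : (t : G)⁻¹ = t := inv_eq_of_mul_eq_one_right ht2
    calc g * b * g⁻¹ = (t : G) * ((y : G) * b * (y : G)⁻¹) * (t : G)⁻¹ := by rw [hg]; group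
      _ = ((t : G) * b * (t : G)⁻¹) ^ 2 := by rw [hy, conj_pow]
      _ = (b⁻¹) ^ 2 * b ^ 7 := by
          rw [hti, htb, show b ^ 7 = 1 from hb ▸ pow_orderOf_eq_one b, mul_one]
      _ = b ^ 5 := by group
  rw [Subgroup.relIndex, ← Subgroup.normalizerMonoidHom_ker, Subgroup.index_ker]
  set φ := (Subgroup.zpowers b).normalizerMonoidHom with hφ
  have hcard : Nat.card (MulAut (Subgroup.zpowers b)) = 6 := by
    rw [IsCyclic.card_mulAut, Nat.card_zpowers, hb, Nat.totient_prime (by norm_num)]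
  refine le_antisymm (hcard ▸ Subgroup.card_le_card_group _) ?_
  set a := φ ⟨g, hbn g 5 hgb⟩ with ha
  have hpow : ∀ k : ℕ, ((((a ^ k) ⟨b, Subgroup.mem_zpowers b⟩ : Subgroup.zpowers b)) : G) = b ^ (5 ^ k) := by
    intro k
    induction k with
    | zero => simp
    | succ k ih =>
      rw [pow_succ', MulAut.mul_apply]
      show g * _ * g⁻¹ = _
      rw [ih, ← conj_pow, hgb, ← pow_mul, pow_succ']
  have hne : ∀ k, 5 ^ k % 7 ≠ 1 → a ^ k ≠ 1 := by
    intro k hk h
    have := hpow k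
    rw [h] at this
    have h2 : b ^ 1 = b ^ (5 ^ k) := by rw [pow_one]; exact this
    rw [pow_inj_mod, hb] at h2
    exact hk h2.symm
  have hdvd : orderOf a ∣ 6 := by rw [← hcard]; exact orderOf_dvd_natCard a
  have hle : orderOf a = 6 := by
    have hdm : orderOf a ∈ Nat.divisors 6 := Nat.mem_divisors.mpr ⟨hdvd, by norm_num⟩
    rw [show Nat.divisors 6 = {1, 2, 3, 6} by decide] at hdm
    simp only [Finset.mem_insert, Finset.mem_singleton] at hdm
    have hp := pow_orderOf_eq_one a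
    rcases hdm with h | h | h | h <;> rw [h] at hp <;>
      first | exact h | exact absurd hp (hne _ (by norm_num))
  rw [← hle, ← Nat.card_zpowers]
  exact Nat.card_mono (Set.toFinite _) (Subgroup.zpowers_le.mpr ⟨_, rfl⟩)

include hS hψ hb he in
/-- No element inverting `b` centralizes the layer of `C(b)`. -/
theorem not_centralize_layer {r : G} (hr : r ∈ fixQ Q b) (hrc : IsConj z r) (hrz : r ≠ z) {x : G}
    (hxb : x * b * x⁻¹ = b⁻¹) :
    ¬ ∀ y ∈ (Cfsg.layer ↥(Subgroup.centralizer (Subgroup.zpowers b : Set G))).map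
        (Subgroup.centralizer (Subgroup.zpowers b : Set G)).subtype, x * y = y * x := by
  intro hx
  have : Fact (Nat.Prime 7) := ⟨by norm_num⟩
  obtain ⟨hA, -, -⟩ := setting_extraAt hS
  have hfit := fitting_le_zpowers hS hψ hb hbz he hr hrc hrz
  -- the centralizer of the layer is `⟨b⟩`
  have hcent : ∀ h : ↥(Subgroup.centralizer (Subgroup.zpowers b : Set G)),
      (∀ y ∈ Cfsg.layer ↥(Subgroup.centralizer (Subgroup.zpowers b : Set G)), y * h = h * y) →
      (h : G) ∈ Subgroup.zpowers b := by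
    intro h hh
    refine hfit (CfsgLib.Components.centralizer_generalizedFitting_le_fitting ?_)
    rw [Cfsg.generalizedFittingSubgroup, Subgroup.sup_eq_closure, Subgroup.centralizer_closure,
      Subgroup.mem_centralizer_iff]
    rintro y (hy | hy)
    · exact hh y hy
    · exact Subtype.ext (Subgroup.mem_centralizer_iff.mp h.2 y (hfit hy))
  have hxi : x⁻¹ * b * x = b⁻¹ := by
    have h1 : x * b⁻¹ * x⁻¹ = b := by rw [← conj_inv, hxb, inv_inv]
    calc x⁻¹ * b * x = x⁻¹ * (x * b⁻¹ * x⁻¹) * x := by rw [h1]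
      _ = b⁻¹ := by group
  -- `x` centralizes `C(b)` modulo `⟨b⟩`
  have hmod : ∀ h : G, h * b = b * h → x * h * x⁻¹ * h⁻¹ ∈ Subgroup.zpowers b := by
    intro h hh
    have hcb : x * h * x⁻¹ * b = b * (x * h * x⁻¹) := by
      calc x * h * x⁻¹ * b = x * (h * (x⁻¹ * b * x)) * x⁻¹ := by group
        _ = x * (b⁻¹ * h) * x⁻¹ := by rw [hxi, ((show Commute h b from hh).inv_right).eq]
        _ = (x * b⁻¹ * x⁻¹) * (x * h * x⁻¹) := by group
        _ = b * (x * h * x⁻¹) := by rw [← conj_inv, hxb, inv_inv]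
    have hu : x * h * x⁻¹ * h⁻¹ ∈ Subgroup.centralizer (Subgroup.zpowers b : Set G) :=
      mul_mem (mem_centralizer_zpowers.mpr hcb) (inv_mem (mem_centralizer_zpowers.mpr hh))
    refine hcent ⟨_, hu⟩ fun y hy => Subtype.ext ?_
    show (y : G) * (x * h * x⁻¹ * h⁻¹) = x * h * x⁻¹ * h⁻¹ * y
    have hx' : ∀ w : G, w ∈ (Cfsg.layer ↥(Subgroup.centralizer (Subgroup.zpowers b : Set G))).map
        (Subgroup.centralizer (Subgroup.zpowers b : Set G)).subtype → x⁻¹ * w * x = w := fun w hw => by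
      rw [mul_assoc, ← hx w hw, inv_mul_cancel_left]
    set y' := h⁻¹ * (y : G) * h with hy'
    have hy'L : y' ∈ (Cfsg.layer ↥(Subgroup.centralizer (Subgroup.zpowers b : Set G))).map
        (Subgroup.centralizer (Subgroup.zpowers b : Set G)).subtype := by
      refine ⟨⟨h, mem_centralizer_zpowers.mpr hh⟩⁻¹ * y * ⟨h, mem_centralizer_zpowers.mpr hh⟩, ?_, rfl⟩
      have := (inferInstance : (Cfsg.layer ↥(Subgroup.centralizer (Subgroup.zpowers b : Set G))).Normal).conj_mem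
        y hy ⟨h, mem_centralizer_zpowers.mpr hh⟩⁻¹
      rwa [inv_inv] at this
    have hh' : h * y' = y * h := by rw [hy']; group
    have hyL : (y : G) ∈ (Cfsg.layer ↥(Subgroup.centralizer (Subgroup.zpowers b : Set G))).map
        (Subgroup.centralizer (Subgroup.zpowers b : Set G)).subtype := ⟨y, hy, rfl⟩
    calc (y : G) * (x * h * x⁻¹ * h⁻¹) = (y * x) * h * x⁻¹ * h⁻¹ := by group
      _ = x * (y * h) * x⁻¹ * h⁻¹ := by rw [← hx _ hyL]; group
      _ = x * h * (y' * x⁻¹) * h⁻¹ := by rw [← hh']; group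
      _ = x * h * x⁻¹ * y' * h⁻¹ := by
          rw [show y' * x⁻¹ = x⁻¹ * y' by
            calc y' * x⁻¹ = x⁻¹ * (x * y') * x⁻¹ := by group
              _ = x⁻¹ * (y' * x) * x⁻¹ := by rw [hx _ hy'L]
              _ = x⁻¹ * y' := by group]
          group
      _ = x * h * x⁻¹ * h⁻¹ * y := by rw [hy']; group
  have hbzc : b * z = z * b := Subgroup.mem_centralizer_singleton_iff.mp hbz
  -- `x` commutes with `z` and with `C_Q(b)`
  have hxz : x * z = z * x := by
    obtain ⟨n, hn⟩ := Subgroup.mem_zpowers_iff.mp (hmod z hbzc.symm)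
    have hz' : x * z * x⁻¹ = b ^ n * z := by rw [hn, inv_mul_cancel_right]
    have h2 : b ^ n * b ^ n = 1 := by
      have h3 : x * z * x⁻¹ * (x * z * x⁻¹) = 1 := by
        calc x * z * x⁻¹ * (x * z * x⁻¹) = x * (z * z) * x⁻¹ := by group
          _ = 1 := by rw [hA.sq_one, mul_one, mul_inv_cancel]
      rw [hz'] at h3
      calc b ^ n * b ^ n = b ^ n * b ^ n * (z * z) := by rw [hA.sq_one, mul_one]
        _ = b ^ n * (b ^ n * z) * z := by group
        _ = b ^ n * (z * b ^ n) * z := by rw [((show Commute b z from hbzc).zpow_left n).eq]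
        _ = 1 := by rw [← h3]; group
    have h1 : b ^ n = 1 := by
      have h3 := Nat.dvd_gcd (orderOf_dvd_of_pow_eq_one (show (b ^ n) ^ 2 = 1 by rw [pow_two, h2]))
        (hb ▸ orderOf_dvd_of_mem_zpowers (zpow_mem (Subgroup.mem_zpowers b) n))
      norm_num at h3
      exact h3
    rw [h1, one_mul] at hz'
    exact mul_inv_eq_iff_eq_mul.mp hz'
  have hxc : x ∈ cz z := Subgroup.mem_centralizer_singleton_iff.mpr hxz
  have hxq : ∀ q ∈ fixQ Q b, x * q * x⁻¹ = q := by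
    intro q hq
    obtain ⟨hqQ, hqb⟩ := mem_fixQ.mp hq
    obtain ⟨hqc, hqQ'⟩ := mem_qm.mp hqQ
    have h1 : x * q * x⁻¹ ∈ qm Q := mem_qm.mpr ⟨mul_mem (mul_mem hxc hqc) (inv_mem hxc),
      (inferInstance : Q.Normal).conj_mem ⟨q, hqc⟩ hqQ' ⟨x, hxc⟩⟩
    exact mul_inv_eq_one.mp (eq_one_of_two_odd (isPGroup_qm hS) (by norm_num : (7 : ℕ) ≠ 2) hb
      (mul_mem h1 (inv_mem hqQ)) (hmod q hqb))
  -- in the automorphism group of the lattice
  obtain ⟨γ, hγ⟩ := QuotientGroup.mk_surjective (e (QuotientGroup.mk (⟨x, hxc⟩ : cz z)))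
  have hinv : γ * sevW * γ⁻¹ = sevW⁻¹ := by
    have h : (QuotientGroup.mk (γ * sevW * γ⁻¹ * sevW) : Spor.Co1) = 1 := by
      simp only [QuotientGroup.mk_mul, QuotientGroup.mk_inv, hγ, ← he, ← map_inv, ← map_mul]
      simp only [← QuotientGroup.mk_inv, ← QuotientGroup.mk_mul]
      rw [show (⟨x, hxc⟩ * ⟨b, hbz⟩ * ⟨x, hxc⟩⁻¹ * ⟨b, hbz⟩ : cz z) = 1 from Subtype.ext (by
        show x * b * x⁻¹ * b = 1
        rw [hxb, inv_mul_cancel]), QuotientGroup.mk_one, map_one]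
    rcases center_cases ((QuotientGroup.eq_one_iff _).mp h) with h1 | h1
    · exact mul_eq_one_iff_eq_inv.mp h1
    · exfalso
      have h2 : γ * sevW * γ⁻¹ = sgnW ⟨1, one_mem_golay⟩ * sevW⁻¹ := eq_mul_inv_iff_mul_eq.mpr h1
      have hcom : Commute (sgnW ⟨1, one_mem_golay⟩) sevW⁻¹ :=
        ((Subgroup.mem_center_iff.mp neg_mem_center) sevW⁻¹).symm
      have h3 := congrArg (· ^ 7) h2
      simp only [conj_pow, hcom.mul_pow, sevW_pow_seven, inv_pow, inv_one, mul_one, mul_inv_cancel] at h3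
      have := congrArg (fun δ : Co0 => ((δ • LeechEight.latE none : leechLattice) : GolayPt → ℤ) none) h3
      simp [pow_succ, mul_smul, sgnW_apply, latE_apply] at this
  have hδ : eW 3 * γ ∈ centK := by
    refine mem_centK.mpr ?_
    calc eW 3 * γ * sevW = eW 3 * (γ * sevW * γ⁻¹) * γ := by group
      _ = sevW * eW 3 * γ := by rw [hinv, eW_comm]
      _ = sevW * (eW 3 * γ) := mul_assoc _ _ _
  refine not_inW hδ ?_
  obtain ⟨q, hq⟩ := QuotientGroup.mk_surjective (ψ (LeechEight.latE none))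
  have hqf := (fixed_iff_commute hS hψ hb hbz he hq.symm).mp (fixed_of_smul sev_latE0)
  have hcong : Cong (γ • LeechEight.latE none) (LeechEight.latE none) := by
    rw [psi_cong hψ, psi_smul hψ hγ.symm hq.symm, ← hq]
    exact congrArg _ (Subtype.ext (Subtype.ext (hxq _ (mem_fixQ.mpr ⟨gval_mem q, hqf.symm⟩))))
  rw [mul_smul, kap_cong (hcong.smul' (eW 3)), kap_eW_latE0]
  exact inW_wc 3

end CfsgLib.MonsterType.HeldNorm
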